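import Groth.Agent.L02.MorSch.IsoLocus
import Groth.Agent.L14.Quot.Pull
import Groth.Prelude.Def_FGA
import Groth.Prelude.Def_Flatn
import Mathlib.AlgebraicGeometry.Morphisms.ClosedImmersion

/-!
# The Mor scheme inside the Hilbert scheme
-/

set_option autoImplicit false
set_option linter.style.haveILetI false
set_option linter.unusedSectionVars false
set_option backward.isDefEq.respectTransparency false
set_option backward.isDefEq.respectTransparency.types false

universe u

open CategoryTheory CategoryTheory.Limits AlgebraicGeometry TopologicalSpace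

noncomputable section

namespace Groth.L02.MorSch

variable {X Y S : Scheme.{u}} (gX : X ⟶ S) (gY : Y ⟶ S)

/-- The structure map of the product. -/
abbrev fXY : pullback gX gY ⟶ S := pullback.fst gX gY ≫ gX

/-- The projection of a family to the first factor. -/
def pr (T : Over S) : PicF.XT (fXY gX gY) T ⟶ pullback T.hom gX :=
  pullback.lift (PicF.XTproj (fXY gX gY) T) (pullback.fst (fXY gX gY) T.hom ≫ pullback.fst gX gY)
    (by rw [Category.assoc]; exact pullback.condition.symm)

theorem pr_fst (T : Over S) : pr gX gY T ≫ pullback.fst T.hom gX = PicF.XTproj (fXY gX gY) T :=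
  pullback.lift_fst _ _ _

theorem pr_snd (T : Over S) :
    pr gX gY T ≫ pullback.snd T.hom gX = pullback.fst (fXY gX gY) T.hom ≫ pullback.fst gX gY :=
  pullback.lift_snd _ _ _

theorem hom_ext' {T : Over S} {W : Scheme.{u}} {a b : W ⟶ PicF.XT (fXY gX gY) T}
    (h₁ : a ≫ pr gX gY T = b ≫ pr gX gY T)
    (h₂ : a ≫ pullback.fst (fXY gX gY) T.hom ≫ pullback.snd gX gY = b ≫ pullback.fst (fXY gX gY) T.hom ≫ pullback.snd gX gY) :
    a = b := by
  apply pullback.hom_ext
  · apply pullback.hom_ext
    · simp only [Category.assoc, ← pr_snd gX gY T]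
      rw [reassoc_of% h₁]
    · simpa [Category.assoc] using h₂
  · show a ≫ PicF.XTproj (fXY gX gY) T = b ≫ PicF.XTproj (fXY gX gY) T
    rw [← pr_fst gX gY T, reassoc_of% h₁]

/-- The map on first factors. -/
def prMap {T T' : Over S} (g : T' ⟶ T) : pullback T'.hom gX ⟶ pullback T.hom gX :=
  pullback.map T'.hom gX T.hom gX g.left (𝟙 X) (𝟙 S) (by rw [Category.comp_id, Over.w]) (by simp)

theorem isPullback_prMap {T T' : Over S} (g : T' ⟶ T) :
    IsPullback (prMap gX g) (pullback.fst T'.hom gX) (pullback.fst T.hom gX) g.left := by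
  refine (IsPullback.of_bot ?_ (pullback.lift_fst _ _ _).symm (IsPullback.of_hasPullback T.hom gX)).flip
  rw [pullback.lift_snd, Category.comp_id, Over.w]
  exact IsPullback.of_hasPullback T'.hom gX

theorem isPullback_pr {T T' : Over S} (g : T' ⟶ T) :
    IsPullback (PicF.XTmap (fXY gX gY) g) (pr gX gY T') (pr gX gY T) (prMap gX g) := by
  refine IsPullback.of_bot ?_ ?_ (isPullback_prMap gX g)
  · rw [pr_fst, pr_fst]
    exact Groth.L14.Quot.isPullback_XTmap (fXY gX gY) g
  · apply pullback.hom_ext
    · rw [Category.assoc, Category.assoc, pr_fst, (Groth.L14.Quot.isPullback_XTmap (fXY gX gY) g).w,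
        (isPullback_prMap gX g).w, reassoc_of% (pr_fst gX gY T')]
    · rw [Category.assoc, Category.assoc, pr_snd,
        show prMap gX g ≫ pullback.snd T.hom gX = pullback.snd T'.hom gX from
          (pullback.lift_snd _ _ _).trans (Category.comp_id _), pr_snd, ← Category.assoc]
      congr 1
      exact FGA.XTmap_fst (fXY gX gY) g

/-- The graph. -/
abbrev graph (T : Over S) (a : (Flatn.morS gX gY).obj (Opposite.op T)) :
    pullback T.hom gX ⟶ PicF.XT (fXY gX gY) T :=
  pullback.lift (pullback.lift (pullback.snd T.hom gX) a.left (Over.w a).symm) (pullback.fst T.hom gX)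
    ((pullback.lift_fst_assoc _ _ _ _).trans pullback.condition.symm)

theorem graph_pr (T : Over S) (a : (Flatn.morS gX gY).obj (Opposite.op T)) :
    graph gX gY T a ≫ pr gX gY T = 𝟙 _ := by
  apply pullback.hom_ext
  · rw [Category.assoc, pr_fst, Category.id_comp]
    exact pullback.lift_snd _ _ _
  · rw [Category.assoc, pr_snd, Category.id_comp, pullback.lift_fst_assoc, pullback.lift_fst]

theorem graph_snd (T : Over S) (a : (Flatn.morS gX gY).obj (Opposite.op T)) :
    graph gX gY T a ≫ pullback.fst (fXY gX gY) T.hom ≫ pullback.snd gX gY = a.left := by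
  rw [pullback.lift_fst_assoc]
  exact pullback.lift_snd _ _ _

variable [IsSeparated gY] [IsProper gX] [Flat gX]

instance isSeparated_pr (T : Over S) : IsSeparated (pr gX gY T) := by
  haveI : IsSeparated (pullback.fst gX gY) := MorphismProperty.pullback_fst _ _ ‹IsSeparated gY›
  haveI : IsSeparated (fXY gX gY) := inferInstance
  haveI : IsSeparated (PicF.XTproj (fXY gX gY) T) := MorphismProperty.pullback_snd _ _ ‹_›
  haveI : IsSeparated (pr gX gY T ≫ pullback.fst T.hom gX) := by rw [pr_fst]; infer_instance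
  exact IsSeparated.of_comp _ (pullback.fst T.hom gX)

instance isClosedImmersion_graph (T : Over S) (a : (Flatn.morS gX gY).obj (Opposite.op T)) :
    IsClosedImmersion (graph gX gY T a) := by
  haveI : IsClosedImmersion (graph gX gY T a ≫ pr gX gY T) := by rw [graph_pr]; infer_instance
  exact IsClosedImmersion.of_comp _ (pr gX gY T)

theorem graph_eq_of_ker_eq (T : Over S) {a a' : (Flatn.morS gX gY).obj (Opposite.op T)}
    (h : (graph gX gY T a).ker = (graph gX gY T a').ker) : a = a' := by
  let e := IsClosedImmersion.lift (graph gX gY T a') (graph gX gY T a) h.ge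
  have he : e ≫ graph gX gY T a' = graph gX gY T a := IsClosedImmersion.lift_fac _ _ _
  have h1 : e = 𝟙 _ := by
    have := congrArg (· ≫ pr gX gY T) he
    simpa [Category.assoc, graph_pr] using this
  rw [h1, Category.id_comp] at he
  refine Over.OverMorphism.ext ?_
  rw [← graph_snd gX gY T a, ← graph_snd gX gY T a', he]

theorem graph_mem (T : Over S) (a : (Flatn.morS gX gY).obj (Opposite.op T)) :
    IsProper ((graph gX gY T a).ker.subschemeι ≫ PicF.XTproj (fXY gX gY) T) ∧
      Flat ((graph gX gY T a).ker.subschemeι ≫ PicF.XTproj (fXY gX gY) T) := by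
  have h1 : (graph gX gY T a).toImage ≫ (graph gX gY T a).ker.subschemeι ≫ PicF.XTproj (fXY gX gY) T =
      pullback.fst T.hom gX := by
    rw [← Category.assoc]
    erw [(graph gX gY T a).toImage_imageι]
    exact pullback.lift_snd _ _ _
  constructor
  · rw [← MorphismProperty.cancel_left_of_respectsIso @IsProper (graph gX gY T a).toImage, h1]
    exact MorphismProperty.pullback_fst (P := @IsProper) _ _ inferInstance
  · rw [← MorphismProperty.cancel_left_of_respectsIso @Flat (graph gX gY T a).toImage, h1]
    exact MorphismProperty.pullback_fst (P := @Flat) _ _ inferInstance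

/-- The graphs form an open part of the Hilbert scheme of the product. -/
theorem exists_graph_open (H : Over S) (Z : FGA.HilbSet (fXY gX gY) H)
    (hH : FGA.HilbRepresentedBy (fXY gX gY) H Z) :
    ∃ H₀ : H.left.Opens, ∀ (T : Over S) [IsLocallyNoetherian T.left],
      (∀ a : (Flatn.morS gX gY).obj (Opposite.op T),
        ∃! g : T ⟶ H, Set.range g.left ⊆ (H₀ : Set H.left) ∧
          FGA.hilbPull (fXY gX gY) g Z.1 = (graph gX gY T a).ker) ∧
      ∀ g : T ⟶ H, Set.range g.left ⊆ (H₀ : Set H.left) →
        ∃! a : (Flatn.morS gX gY).obj (Opposite.op T),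
          FGA.hilbPull (fXY gX gY) g Z.1 = (graph gX gY T a).ker := by
  haveI := hH.1
  let q := Z.1.subschemeι ≫ pr gX gY H
  have hq : q ≫ pullback.fst H.hom gX = Z.1.subschemeι ≫ PicF.XTproj (fXY gX gY) H := by
    rw [Category.assoc, pr_fst]
  haveI : IsProper (q ≫ pullback.fst H.hom gX) := hq ▸ Z.2.1
  haveI : Flat (q ≫ pullback.fst H.hom gX) := hq ▸ Z.2.2
  haveI : IsProper (pullback.fst H.hom gX) := MorphismProperty.pullback_fst (P := @IsProper) _ _ inferInstance
  obtain ⟨H₀, hH₀⟩ := exists_fi_locus q (pullback.fst H.hom gX)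
  have key : ∀ (T : Over S) (g : T ⟶ H), Set.range g.left ⊆ (H₀ : Set H.left) ↔
      IsIso (pullback.snd Z.1.subschemeι (PicF.XTmap (fXY gX gY) g) ≫ pr gX gY T) := fun T g => by
    rw [hH₀ T.left g.left]
    have h1 : IsPullback (pullback.fst Z.1.subschemeι (PicF.XTmap (fXY gX gY) g))
        (pullback.snd Z.1.subschemeι (PicF.XTmap (fXY gX gY) g) ≫ pr gX gY T) q (prMap gX g) :=
      (IsPullback.of_hasPullback _ _).paste_vert (isPullback_pr gX gY g)
    let e := (isPullback_prMap gX g).isoPullback
    have h2 : IsPullback (pullback.fst Z.1.subschemeι (PicF.XTmap (fXY gX gY) g))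
        ((pullback.snd Z.1.subschemeι (PicF.XTmap (fXY gX gY) g) ≫ pr gX gY T) ≫ e.hom) q
        (pullback.fst (pullback.fst H.hom gX) g.left) :=
      h1.of_iso (Iso.refl _) (Iso.refl _) e (Iso.refl _) (by simp) (by simp) (by simp) (by simp [e])
    show IsIso (pullback.snd q (pullback.fst (pullback.fst H.hom gX) g.left)) ↔ _
    constructor
    · intro _
      have : IsIso ((pullback.snd Z.1.subschemeι (PicF.XTmap (fXY gX gY) g) ≫ pr gX gY T) ≫ e.hom) := by
        rw [← h2.isoPullback_hom_snd]; infer_instance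
      exact IsIso.of_isIso_comp_right _ e.hom
    · intro _
      have : IsIso ((pullback.snd Z.1.subschemeι (PicF.XTmap (fXY gX gY) g) ≫ pr gX gY T) ≫ e.hom) := inferInstance
      rw [← h2.isoPullback_hom_snd] at this
      exact IsIso.of_isIso_comp_left h2.isoPullback.hom _
  refine ⟨H₀, fun T _ => ⟨fun a => ?_, fun g hg => ?_⟩⟩
  · obtain ⟨g, hg, hu⟩ := hH.2 T ⟨_, graph_mem gX gY T a⟩
    refine ⟨g, ⟨(key T g).2 ?_, hg⟩, fun g' hg' => hu g' hg'.2⟩
    let c := pullback.snd Z.1.subschemeι (PicF.XTmap (fXY gX gY) g)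
    have hc : c.ker = (graph gX gY T a).ker := hg
    let e := IsClosedImmersion.lift (graph gX gY T a) c hc.ge
    haveI : IsIso e := IsClosedImmersion.isIso_lift _ _ hc.symm
    show IsIso (c ≫ pr gX gY T)
    rw [← IsClosedImmersion.lift_fac (graph gX gY T a) c hc.ge, Category.assoc, graph_pr, Category.comp_id]
    infer_instance
  · haveI := (key T g).1 hg
    let c := pullback.snd Z.1.subschemeι (PicF.XTmap (fXY gX gY) g)
    let s := inv (c ≫ pr gX gY T) ≫ c
    have hs : s ≫ pr gX gY T = 𝟙 _ := by simp [s, c]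
    let a : (Flatn.morS gX gY).obj (Opposite.op T) := Over.homMk
      (s ≫ pullback.fst (fXY gX gY) T.hom ≫ pullback.snd gX gY) (by
        show (s ≫ pullback.fst (fXY gX gY) T.hom ≫ pullback.snd gX gY) ≫ gY = pullback.snd T.hom gX ≫ gX
        simp only [Category.assoc, ← pullback.condition (f := gX) (g := gY)]
        rw [← reassoc_of% (pr_snd gX gY T), reassoc_of% hs])
    have ha : graph gX gY T a = s := hom_ext' gX gY ((graph_pr gX gY T a).trans hs.symm) (graph_snd gX gY T a)
    have hk : FGA.hilbPull (fXY gX gY) g Z.1 = (graph gX gY T a).ker := by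
      rw [ha]
      exact (Scheme.Hom.ker_comp_of_isIso _ c).symm
    exact ⟨a, hk, fun a' ha' => graph_eq_of_ker_eq gX gY T (ha'.symm.trans hk)⟩

end Groth.L02.MorSch
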