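import Groth.Agent.L07.FibIso.Fibre
import Groth.Agent.S2387

/-!
# The open set over which a morphism of proper schemes is an isomorphism
-/

set_option autoImplicit false
set_option linter.style.haveILetI false
set_option backward.isDefEq.respectTransparency false
set_option backward.isDefEq.respectTransparency.types false

universe u

open CategoryTheory CategoryTheory.Limits AlgebraicGeometry TopologicalSpace

noncomputable section

namespace Groth.L02.MorSch

open Groth.L07.FibIso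

variable {X Y S : Scheme.{u}}

theorem fi_of_isIso_restrict (f : X ⟶ Y) (h : Y ⟶ S) (V : S.Opens) [IsIso (f ∣_ (h ⁻¹ᵁ V))] : FI f h V.ι := by
  let i := pullbackRestrictIsoRestrict h V
  have h1 : IsPullback (pullback.fst f (pullback.fst h V.ι)) (pullback.snd f (pullback.fst h V.ι) ≫ i.hom)
      f (h ⁻¹ᵁ V).ι :=
    (IsPullback.of_hasPullback f (pullback.fst h V.ι)).of_iso (Iso.refl _) (Iso.refl _) i (Iso.refl _)
      (by simp) (by simp) (by simp) (by simp [i])
  have h2 := (isPullback_morphismRestrict f (h ⁻¹ᵁ V)).flip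
  have h3 : IsIso (pullback.snd f (pullback.fst h V.ι) ≫ i.hom) := by
    rw [← h1.isoIsPullback_hom_snd _ _ h2]
    infer_instance
  exact IsIso.of_isIso_comp_right _ i.hom

/-- Being an isomorphism is an open condition on the base, and commutes with base change. -/
theorem exists_fi_locus [IsLocallyNoetherian S] (f : X ⟶ Y) (h : Y ⟶ S) [IsProper (f ≫ h)] [Flat (f ≫ h)]
    [IsProper h] :
    ∃ S₀ : S.Opens, ∀ (S' : Scheme.{u}) (σ : S' ⟶ S), Set.range σ ⊆ (S₀ : Set S) ↔ FI f h σ := by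
  let U := fun V : {V : S.Opens // IsIso (f ∣_ (h ⁻¹ᵁ V))} => V.1
  let S₀ : S.Opens := ⨆ V, U V
  have hS₀ : FI f h S₀.ι := by
    haveI : IsIso (f ∣_ (h ⁻¹ᵁ S₀)) := by
      let W := h ⁻¹ᵁ S₀
      show MorphismProperty.isomorphisms Scheme (f ∣_ W)
      rw [IsZariskiLocalAtTarget.iff_of_iSup_eq_top (P := MorphismProperty.isomorphisms Scheme)
        (fun V => W.ι ⁻¹ᵁ (h ⁻¹ᵁ U V))
        (eq_top_iff.2 fun y _ => by
          obtain ⟨V, hV⟩ := Opens.mem_iSup.1 (show h (W.ι y) ∈ S₀ from y.2)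
          exact Opens.mem_iSup.2 ⟨V, hV⟩)]
      intro V
      refine ((MorphismProperty.isomorphisms Scheme).arrow_mk_iso_iff (morphismRestrictRestrict f W _)).2 ?_
      have e : W.ι ''ᵁ (W.ι ⁻¹ᵁ (h ⁻¹ᵁ U V)) = h ⁻¹ᵁ U V := by
        rw [Scheme.Hom.image_preimage_eq_opensRange_inf, Scheme.Opens.opensRange_ι]
        exact inf_eq_right.2 (h.preimage_mono (le_iSup U V))
      rw [e]
      exact V.2
    exact fi_of_isIso_restrict f h S₀
  refine ⟨S₀, fun S' σ => ⟨fun hσ => ?_, fun hσ => ?_⟩⟩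
  · have := hS₀.comp f h (IsOpenImmersion.lift S₀.ι σ (by rwa [Scheme.Opens.range_ι]))
    rwa [IsOpenImmersion.lift_fac] at this
  · rintro _ ⟨s', rfl⟩
    have h1 : FI f h (S.fromSpecResidueField (σ s')) :=
      (fi_field_iff_of_eq f h (K := S'.residueField s') (L := S.residueField (σ s'))
        (S'.fromSpecResidueField s' ≫ σ) (S.fromSpecResidueField (σ s')) (IsLocalRing.closedPoint _)
        (IsLocalRing.closedPoint _) (by
          rw [Scheme.Hom.comp_apply]
          exact (congrArg σ ((S'.range_fromSpecResidueField s').le ⟨_, rfl⟩)).trans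
            ((S.range_fromSpecResidueField (σ s')).le ⟨_, rfl⟩).symm)).1 (hσ.comp f h _)
    haveI : IsIso (CohIII.fiberMapOver f (f ≫ h) h rfl (σ s')) := (fiberMap_iff f h (σ s')).2 h1
    obtain ⟨V, hV, hiso⟩ := Groth.Agent.S2387.result f (f ≫ h) h rfl (σ s')
    exact Opens.mem_iSup.2 ⟨⟨V, hiso⟩, hV⟩

/-- The same, for a map of base changes. -/
theorem exists_iso_locus [IsLocallyNoetherian S] (f : X ⟶ Y) (g : X ⟶ S) (h : Y ⟶ S) (w : f ≫ h = g) [IsProper g] [Flat g]
    [IsProper h] :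
    ∃ S₀ : S.Opens, ∀ (S' : Scheme.{u}) (σ : S' ⟶ S) (m : pullback g σ ⟶ pullback h σ),
      m ≫ pullback.fst h σ = pullback.fst g σ ≫ f → m ≫ pullback.snd h σ = pullback.snd g σ →
      (Set.range σ ⊆ (S₀ : Set S) ↔ IsIso m) := by
  subst w
  obtain ⟨S₀, hS₀⟩ := exists_fi_locus f h
  refine ⟨S₀, fun S' σ m hm hm' => (hS₀ S' σ).trans ?_⟩
  rw [← isIso_map_iff f h σ]
  suffices pullback.map (f ≫ h) σ h σ f (𝟙 _) (𝟙 _) (by simp) (by simp) = m by rw [this]
  apply pullback.hom_ext
  · rw [hm, pullback.lift_fst]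
  · rw [hm', pullback.lift_snd, Category.comp_id]

end Groth.L02.MorSch
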