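import Groth.Agent.L02.MorSch.HilbGraph
import Mathlib.AlgebraicGeometry.PullbackCarrier
import Mathlib.CategoryTheory.Yoneda

/-!
# The Mor scheme into an open subscheme
-/

set_option autoImplicit false
set_option linter.style.haveILetI false
set_option linter.unusedSectionVars false
set_option backward.isDefEq.respectTransparency false
set_option backward.isDefEq.respectTransparency.types false

universe u

open CategoryTheory CategoryTheory.Limits AlgebraicGeometry TopologicalSpace Opposite

noncomputable section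

namespace Groth.L02.MorSch

variable {X Y U S : Scheme.{u}} (gX : X ⟶ S) (gY : Y ⟶ S)

/-- The test object. -/
abbrev tst (T : Over S) : Over S := (Over.map gX).obj ((Over.pullback gX).obj T)

theorem tst_map_left {T T' : Over S} (φ : T' ⟶ T) :
    ((Over.map gX).map ((Over.pullback gX).map φ)).left = prMap gX φ := by
  apply pullback.hom_ext <;> simp [prMap, Over.pullback]

variable [IsProper gX] (j : U ⟶ Y) [IsOpenImmersion j] (M : Over S) (e : (Flatn.morS gX gY).RepresentableBy M)

/-- The universal morphism. -/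
def univ : tst gX M ⟶ Over.mk gY := e.homEquiv (𝟙 M)

/-- The classifying bijection. -/
def cls (T : Over S) : (T ⟶ M) ≃ (tst gX T ⟶ Over.mk gY) := e.homEquiv

theorem homEquiv_left {T : Over S} (φ : T ⟶ M) :
    (cls gX gY M e T φ).left = prMap gX φ ≫ (univ gX gY M e).left := by
  show (e.homEquiv φ : tst gX T ⟶ Over.mk gY).left = _
  have h := e.homEquiv_comp φ (𝟙 M)
  rw [Category.comp_id] at h
  rw [h, ← tst_map_left gX φ]
  rfl

/-- The points over which the universal morphism lands in the open. -/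
def openLocus : M.left.Opens :=
  haveI : IsProper (pullback.fst M.hom gX) := MorphismProperty.pullback_fst (P := @IsProper) _ _ inferInstance
  ⟨((pullback.fst M.hom gX) '' ((univ gX gY M e).left ⁻¹' (Set.range j)ᶜ))ᶜ,
    ((pullback.fst M.hom gX).isClosedMap _
      (j.isOpenEmbedding.isOpen_range.isClosed_compl.preimage (univ gX gY M e).left.continuous)).isOpen_compl⟩

theorem range_subset_iff {T : Over S} (φ : T ⟶ M) :
    Set.range φ.left ⊆ (openLocus gX gY j M e : Set M.left) ↔
      Set.range (cls gX gY M e T φ).left ⊆ Set.range j := by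
  rw [homEquiv_left]
  constructor
  · rintro h _ ⟨z, rfl⟩
    by_contra hz
    refine h ⟨pullback.fst T.hom gX z, rfl⟩ ⟨prMap gX φ z, ?_, ?_⟩
    · rw [Scheme.Hom.comp_apply] at hz
      exact hz
    · rw [← Scheme.Hom.comp_apply, (isPullback_prMap gX φ).w, Scheme.Hom.comp_apply]
  · rintro h _ ⟨t, rfl⟩ ⟨w, hw, hwt⟩
    obtain ⟨p, hp, -⟩ := Scheme.Pullback.exists_preimage_pullback (f := pullback.fst M.hom gX) (g := φ.left) w t hwt
    refine hw (h ⟨(isPullback_prMap gX φ).isoPullback.inv p, ?_⟩)
    show ((isPullback_prMap gX φ).isoPullback.inv ≫ prMap gX φ ≫ (univ gX gY M e).left) p = _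
    rw [IsPullback.isoPullback_inv_fst_assoc, Scheme.Hom.comp_apply]
    exact congrArg (univ gX gY M e).left hp

/-- A morphism into the open as one into the whole target. -/
abbrev incl : Over.mk (j ≫ gY) ⟶ Over.mk gY := Over.homMk j rfl

/-- The inclusion of the open locus. -/
abbrev locι : Over.mk ((openLocus gX gY j M e).ι ≫ M.hom) ⟶ M := Over.homMk (openLocus gX gY j M e).ι rfl

theorem range_locι {T : Over S} (φ : T ⟶ Over.mk ((openLocus gX gY j M e).ι ≫ M.hom)) :
    Set.range (φ ≫ locι gX gY j M e).left ⊆ (openLocus gX gY j M e : Set M.left) := by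
  rintro _ ⟨t, rfl⟩
  exact (φ.left t).2

/-- The representation of morphisms into the open. -/
def openEquiv (T : Over S) :
    (T ⟶ Over.mk ((openLocus gX gY j M e).ι ≫ M.hom)) ≃ (tst gX T ⟶ Over.mk (j ≫ gY)) where
  toFun φ := Over.homMk (IsOpenImmersion.lift j (cls gX gY M e T (φ ≫ locι gX gY j M e)).left
    ((range_subset_iff gX gY j M e _).1 (range_locι gX gY j M e φ))) (by
      show _ ≫ j ≫ gY = _
      rw [IsOpenImmersion.lift_fac_assoc]
      exact Over.w (cls gX gY M e T (φ ≫ locι gX gY j M e)))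
  invFun a := Over.homMk (IsOpenImmersion.lift (openLocus gX gY j M e).ι ((cls gX gY M e T).symm (a ≫ incl gY j)).left (by
      erw [Scheme.Opens.range_ι, range_subset_iff, Equiv.apply_symm_apply]
      rintro _ ⟨z, rfl⟩
      exact ⟨a.left z, (Scheme.Hom.comp_apply _ _ z).symm⟩)) (by
      show _ ≫ (openLocus gX gY j M e).ι ≫ M.hom = _
      rw [IsOpenImmersion.lift_fac_assoc]
      exact Over.w ((cls gX gY M e T).symm (a ≫ incl gY j)))
  left_inv φ := by
    refine Over.OverMorphism.ext ((cancel_mono (openLocus gX gY j M e).ι).1 ?_)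
    erw [IsOpenImmersion.lift_fac]
    exact congrArg CommaMorphism.left ((Equiv.symm_apply_eq (cls gX gY M e T)).2 (Over.OverMorphism.ext (f := _ ≫ incl gY j) (g := cls gX gY M e T (φ ≫ locι gX gY j M e)) (IsOpenImmersion.lift_fac _ _ _)))
  right_inv a := by
    refine Over.OverMorphism.ext ((cancel_mono j).1 ?_)
    erw [IsOpenImmersion.lift_fac]
    exact congrArg CommaMorphism.left ((Equiv.eq_symm_apply (cls gX gY M e T)).1 (Over.OverMorphism.ext (f := _ ≫ locι gX gY j M e) (g := (cls gX gY M e T).symm (a ≫ incl gY j)) (IsOpenImmersion.lift_fac _ _ _)))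

theorem openEquiv_incl (T : Over S) (φ : T ⟶ Over.mk ((openLocus gX gY j M e).ι ≫ M.hom)) :
    openEquiv gX gY j M e T φ ≫ incl gY j = (cls gX gY M e T (φ ≫ locι gX gY j M e)) :=
  Over.OverMorphism.ext (IsOpenImmersion.lift_fac _ _ _)

theorem exists_open_repr :
    ∃ (M₀ : M.left.Opens) (e₀ : (Flatn.morS gX (j ≫ gY)).RepresentableBy (Over.mk (M₀.ι ≫ M.hom))),
      ∀ (T : Over S) (φ : T ⟶ Over.mk (M₀.ι ≫ M.hom)),
        (e.homEquiv (φ ≫ Over.homMk M₀.ι rfl) : tst gX T ⟶ Over.mk gY) =
          (e₀.homEquiv φ : tst gX T ⟶ Over.mk (j ≫ gY)) ≫ (Over.homMk j rfl : Over.mk (j ≫ gY) ⟶ Over.mk gY) := by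
  refine ⟨openLocus gX gY j M e,
    { homEquiv := fun {T} => openEquiv gX gY j M e T
      homEquiv_comp := fun {T T'} g φ => ?_ }, fun T φ => (openEquiv_incl gX gY j M e T φ).symm⟩
  refine Over.OverMorphism.ext ((cancel_mono j).1 ?_)
  have h1 := congrArg Over.Hom.left (openEquiv_incl gX gY j M e T (g ≫ φ))
  have h2 := congrArg Over.Hom.left (openEquiv_incl gX gY j M e T' φ)
  rw [homEquiv_left, Category.assoc] at h1
  rw [homEquiv_left] at h2
  refine h1.trans ?_
  show _ = (((Over.map gX).map ((Over.pullback gX).map g)).left ≫ (openEquiv gX gY j M e T' φ).left) ≫ j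
  rw [tst_map_left, Category.assoc,
    show (openEquiv gX gY j M e T' φ).left ≫ j = prMap gX (φ ≫ locι gX gY j M e) ≫ (univ gX gY M e).left from h2,
    ← Category.assoc]
  have hmap : prMap gX ((g ≫ φ) ≫ locι gX gY j M e) = prMap gX g ≫ prMap gX (φ ≫ locι gX gY j M e) := by
    apply pullback.hom_ext <;> simp [prMap]
  exact congrArg (fun k => k ≫ (univ gX gY M e).left) hmap

end Groth.L02.MorSch
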